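/-
The normaliser of a self-adjoint quadratic field is maximal in the four-dimensional symplectic group when every
scalar is a square and the field has more than two elements.
-/
import Cfsg.Agent.Geo.SympEichler
import Cfsg.Agent.Elusive.ExtField

set_option autoImplicit false
set_option linter.unusedSectionVars false

namespace CfsgLib.Geo.SpFour

open Matrix Cfsg Cfsg.Geo CfsgLib.Symp CfsgLib.Geo.SpTv

variable {F : Type*} [Field F] [Finite F]

local notation "E" => Fin 2 ⊕ Fin 2 → F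
local notation "GLE" => GL (Fin 2 ⊕ Fin 2) F
local notation "Mat" => Matrix (Fin 2 ⊕ Fin 2) (Fin 2 ⊕ Fin 2) F

/-- A generator of a self-adjoint quadratic field of matrices. -/
structure QuadGen (K : Subalgebra F (Matrix (Fin 2 ⊕ Fin 2) (Fin 2 ⊕ Fin 2) F))
    (j : Matrix (Fin 2 ⊕ Fin 2) (Fin 2 ⊕ Fin 2) F) (p r : F) : Prop where
  span : ∀ k, k ∈ K ↔ ∃ a b : F, k = a • 1 + b • j
  sq : ∀ x, j *ᵥ (j *ᵥ x) = p • (j *ᵥ x) + r • x
  adj : ∀ x y, form (j *ᵥ x) y = form x (j *ᵥ y)
  alt : ∀ x, form x (j *ᵥ x) = 0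
  indep : ∀ (x : Fin 2 ⊕ Fin 2 → F), x ≠ 0 → ∀ a b : F, a • x + b • (j *ᵥ x) = 0 → a = 0 ∧ b = 0

theorem exists_quadGen {K : Subalgebra F Mat} (hK : IsFieldSubalgebra 2 K)
    (hsa : IsSelfAdjointFor (sympForm 2 F) K)
    (halt : ∀ k ∈ K, ∀ v : E, sympForm 2 F (k *ᵥ v) v = 0) : ∃ j p r, QuadGen K j p r := by
  obtain ⟨j, hjK, hj⟩ : ∃ j ∈ K, j ∉ F ∙ (1 : Mat) := by
    by_contra hcon
    push Not at hcon
    have h1 := Submodule.finrank_mono (show Subalgebra.toSubmodule K ≤ F ∙ (1 : Mat) from hcon)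
    rw [finrank_span_singleton (one_ne_zero (α := Mat)), Subalgebra.finrank_toSubmodule, hK.finrank_eq] at h1
    omega
  have hli : LinearIndependent F ![(1 : Mat), j] :=
    (LinearIndependent.pair_iff' one_ne_zero).2 fun a e => hj (Submodule.mem_span_singleton.2 ⟨a, e⟩)
  have hspan : Submodule.span F (Set.range ![(1 : Mat), j]) = Subalgebra.toSubmodule K := by
    refine Submodule.eq_of_le_of_finrank_le (Submodule.span_le.2 ?_) ?_
    · rintro _ ⟨i, rfl⟩
      fin_cases i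
      · exact K.one_mem
      · exact hjK
    · rw [Subalgebra.finrank_toSubmodule, hK.finrank_eq, finrank_span_eq_card hli, Fintype.card_fin]
  have hmem : ∀ k, k ∈ K ↔ ∃ a b : F, k = a • 1 + b • j := fun k => by
    rw [← Subalgebra.mem_toSubmodule, ← hspan,
      show Set.range ![(1 : Mat), j] = {1, j} by simp [Matrix.range_cons, Matrix.range_empty, Set.pair_comm],
      Submodule.mem_span_pair]
    exact exists_congr fun a => exists_congr fun b => eq_comm
  obtain ⟨r, p, hjj⟩ := (hmem _).1 (K.mul_mem hjK hjK)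
  refine ⟨j, p, r, hmem, fun x => ?_, fun x y => hsa j hjK x y, fun x => ?_, fun x hx a b hab => ?_⟩
  · rw [Matrix.mulVec_mulVec, hjj, Matrix.add_mulVec, Matrix.smul_mulVec, Matrix.smul_mulVec,
      Matrix.one_mulVec, add_comm]
  · rw [form_swap]
    exact neg_eq_zero.2 (halt j hjK x)
  · have hk : (a • (1 : Mat) + b • j) = 0 := by
      by_contra hne
      have hkK : a • (1 : Mat) + b • j ∈ K := (hmem _).2 ⟨a, b, rfl⟩
      obtain ⟨y, hy, hy1⟩ := hK.inv _ hkK hne
      rw [hK.comm _ hkK _ hy] at hy1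
      refine hx ?_
      rw [← Matrix.one_mulVec x, ← hy1, ← Matrix.mulVec_mulVec, Matrix.add_mulVec, Matrix.smul_mulVec,
        Matrix.smul_mulVec, Matrix.one_mulVec, hab, Matrix.mulVec_zero]
    exact LinearIndependent.pair_iff.1 hli a b hk

variable {K : Subalgebra F (Matrix (Fin 2 ⊕ Fin 2) (Fin 2 ⊕ Fin 2) F)}
  {j : Matrix (Fin 2 ⊕ Fin 2) (Fin 2 ⊕ Fin 2) F} {p r : F} (hQ : QuadGen K j p r)

include hQ

lemma norm_eq_zero {X Y : F} (h : Y ^ 2 - p * X * Y - r * X ^ 2 = 0) : X = 0 ∧ Y = 0 := by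
  by_cases hX : X = 0
  · subst hX
    exact ⟨rfl, pow_eq_zero_iff (n := 2) (by norm_num) |>.1 (by linear_combination h)⟩
  exfalso
  obtain ⟨t, rfl⟩ : ∃ t, Y = t * X := ⟨Y / X, (div_mul_cancel₀ Y hX).symm⟩
  have ht : t ^ 2 - p * t - r = 0 := by
    have : (t ^ 2 - p * t - r) * X ^ 2 = 0 := by linear_combination h
    exact (mul_eq_zero.1 this).resolve_right (pow_ne_zero _ hX)
  obtain ⟨x, hx⟩ : ∃ x : E, x ≠ 0 := exists_ne 0
  set y : E := (-(p - t)) • x + (1 : F) • (j *ᵥ x) with hy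
  have hy0 : y ≠ 0 := fun e => one_ne_zero (hQ.indep x hx _ _ e).2
  refine one_ne_zero (hQ.indep y hy0 (-t) 1 ?_).2
  have hr : r = t ^ 2 - p * t := by linear_combination -ht
  rw [hy, Matrix.mulVec_add, Matrix.mulVec_smul, Matrix.mulVec_smul, hQ.sq x, hr]
  module

lemma alt' (x : E) : form (j *ᵥ x) x = 0 := by rw [form_swap, hQ.alt, neg_zero]

/-- The orthogonal of a line over the quadratic field is the line. -/
lemma mem_line_of_perp {x y : E} (hx : x ≠ 0) (h1 : form x y = 0) (h2 : form (j *ᵥ x) y = 0) :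
    ∃ a b : F, y = a • x + b • (j *ᵥ x) := by
  have hxS : x ∉ F ∙ (j *ᵥ x) := fun h => by
    obtain ⟨c, hc⟩ := Submodule.mem_span_singleton.1 h
    have := (hQ.indep x hx 1 (-c) (by rw [neg_smul, hc, one_smul, add_neg_cancel])).1
    exact one_ne_zero this
  have hjS : j *ᵥ x ∉ F ∙ x := fun h => by
    obtain ⟨c, hc⟩ := Submodule.mem_span_singleton.1 h
    have := (hQ.indep x hx (-c) 1 (by rw [neg_smul, hc, one_smul, neg_add_cancel])).2
    exact one_ne_zero this
  obtain ⟨w, hw, hxw⟩ := exists_form_of_notMem (F ∙ (j *ᵥ x)) hxS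
  obtain ⟨w', hw', hjw⟩ := exists_form_of_notMem (F ∙ x) hjS
  let L : E →ₗ[F] F × F :=
    { toFun := fun z => (form x z, form (j *ᵥ x) z)
      map_add' := fun z z' => Prod.ext (by exact form_add_right x z z') (by exact form_add_right (j *ᵥ x) z z')
      map_smul' := fun c z => Prod.ext (form_smul_right c _ z) (form_smul_right c _ z) }
  have hsurj : Function.Surjective L := fun z => ⟨z.1 • w + z.2 • w', Prod.ext
    (show form x _ = _ by
      rw [form_add_right, form_smul_right, form_smul_right, hxw,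
        hw' x (Submodule.mem_span_singleton_self _)]
      ring)
    (show form (j *ᵥ x) _ = _ by
      rw [form_add_right, form_smul_right, form_smul_right, hjw,
        hw _ (Submodule.mem_span_singleton_self _)]
      ring)⟩
  have hk := L.finrank_range_add_finrank_ker
  rw [LinearMap.range_eq_top.2 hsurj, finrank_top, Module.finrank_prod, Module.finrank_self,
    Module.finrank_fintype_fun_eq_card, Fintype.card_sum, Fintype.card_fin] at hk
  have hli : LinearIndependent F ![x, j *ᵥ x] := LinearIndependent.pair_iff.2 (hQ.indep x hx)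
  have hle : Submodule.span F (Set.range ![x, j *ᵥ x]) ≤ LinearMap.ker L := by
    rw [Submodule.span_le]
    rintro _ ⟨i, rfl⟩
    fin_cases i
    · exact LinearMap.mem_ker.2 (Prod.ext (by exact form_self x) (by exact alt' hQ x))
    · exact LinearMap.mem_ker.2 (Prod.ext (by exact hQ.alt x) (by exact form_self (j *ᵥ x)))
  have heq := Submodule.eq_of_le_of_finrank_le hle (by rw [finrank_span_eq_card hli, Fintype.card_fin]; omega)
  have hy : y ∈ Submodule.span F (Set.range ![x, j *ᵥ x]) := heq ▸ LinearMap.mem_ker.2 (Prod.ext h1 h2)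
  rw [show Set.range ![x, j *ᵥ x] = {x, j *ᵥ x} by simp [Matrix.range_cons, Matrix.range_empty, Set.pair_comm],
    Submodule.mem_span_pair] at hy
  obtain ⟨a, b, h⟩ := hy
  exact ⟨a, b, h.symm⟩

/-- The transvections over the quadratic field with centre `v`. -/
lemma exists_ktv (v : E) (B C : F) : ∃ u ∈ subalgebraNormalizer K ⊓ spGL 2 F, ∀ y : E,
    (u : Mat) *ᵥ y = y + ((r * C - p * B) * form y v + B * form y (j *ᵥ v)) • v +
      (B * form y v + C * form y (j *ᵥ v)) • (j *ᵥ v) := by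
  set a := j *ᵥ v
  have hva : form v a = 0 := hQ.alt v
  have hav : form a v = 0 := alt' hQ v
  set u : GLE := stv v (r * C - p * B) * stv2 (B • v) a * stv a C
  have hu : ∀ y : E, (u : Mat) *ᵥ y = y + ((r * C - p * B) * form y v + B * form y a) • v +
      (B * form y v + C * form y a) • a := fun y => by
    simp only [u, mul_mulVec, stv_mulVec, stv2_mulVec (show form (B • v) a = 0 by rw [form_smul_left, hva, mul_zero]),
      form_add_left, form_smul_left, form_smul_right, form_self, hva, hav, mul_zero, add_zero]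
    module
  have huI : u ∈ spGL 2 F := (spGL 2 F).mul_mem ((spGL 2 F).mul_mem (stv_mem _ _) (stv2_mem _ _)) (stv_mem _ _)
  have hcomm : ∀ y : E, (u : Mat) *ᵥ (j *ᵥ y) = j *ᵥ ((u : Mat) *ᵥ y) := fun y => by
    have e1 : form (j *ᵥ y) v = form y a := hQ.adj y v
    have e2 : form (j *ᵥ y) a = p * form y a + r * form y v := by
      rw [hQ.adj, hQ.sq, form_add_right, form_smul_right, form_smul_right]
    rw [hu, hu, Matrix.mulVec_add, Matrix.mulVec_add, Matrix.mulVec_smul, Matrix.mulVec_smul, hQ.sq v, e1, e2]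
    module
  have := Fintype.ofFinite F
  refine ⟨u, ⟨CfsgLib.Elusive.mem_normalizer_of_conj fun k hk => ?_, huI⟩, hu⟩
  suffices e : (u : Mat) * k = k * (u : Mat) by rw [e, mul_assoc, Units.mul_inv, mul_one]; exact hk
  obtain ⟨α, β, rfl⟩ := (hQ.span k).1 hk
  refine Matrix.ext_iff_mulVec.2 fun y => ?_
  simp only [← Matrix.mulVec_mulVec, Matrix.add_mulVec, Matrix.smul_mulVec, Matrix.one_mulVec,
    Matrix.mulVec_add, Matrix.mulVec_smul, hcomm]

lemma field_step {x y : E} (h : form x y ≠ 0 ∨ form x (j *ᵥ y) ≠ 0) :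
    ∃ u ∈ subalgebraNormalizer K ⊓ spGL 2 F, (u : Mat) *ᵥ x = y := by
  have hX : form x (y - x) = form x y := by rw [form_sub_right, form_self, sub_zero]
  have hY : form x (j *ᵥ (y - x)) = form x (j *ᵥ y) := by
    rw [Matrix.mulVec_sub, form_sub_right, hQ.alt, sub_zero]
  set X := form x y
  set Y := form x (j *ᵥ y)
  have hΔ : Y ^ 2 - p * X * Y - r * X ^ 2 ≠ 0 := fun e => by
    obtain ⟨h1, h2⟩ := norm_eq_zero hQ e
    exact h.elim (fun h => h h1) fun h => h h2
  set Δ := Y ^ 2 - p * X * Y - r * X ^ 2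
  obtain ⟨u, hu, hue⟩ := exists_ktv hQ (y - x) (Y / Δ) (-X / Δ)
  refine ⟨u, hu, ?_⟩
  rw [hue, hX, hY, show (r * (-X / Δ) - p * (Y / Δ)) * X + Y / Δ * Y = 1 by
      field_simp
      simp only [Δ]
      ring,
    show Y / Δ * X + -X / Δ * Y = 0 by field_simp; ring, one_smul, zero_smul, add_zero, add_sub_cancel]

/-- The normaliser is transitive on non-zero vectors. -/
lemma field_move {x y : E} (hx : x ≠ 0) (hy : y ≠ 0) :
    ∃ u ∈ subalgebraNormalizer K ⊓ spGL 2 F, (u : Mat) *ᵥ x = y := by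
  by_cases h : form x y ≠ 0 ∨ form x (j *ᵥ y) ≠ 0
  · exact field_step hQ h
  push Not at h
  obtain ⟨a, b, hab⟩ := mem_line_of_perp hQ hx h.1 (by rw [hQ.adj]; exact h.2)
  let S : Submodule F E := Submodule.span F {x, j *ᵥ x}
  obtain ⟨z, hz⟩ : ∃ z : E, z ∉ S := by
    by_contra hcon
    push Not at hcon
    classical
    have h1 := finrank_span_finset_le_card (R := F) ({x, j *ᵥ x} : Finset E)
    rw [Finset.coe_pair] at h1
    have h2 := Submodule.finrank_mono (show (⊤ : Submodule F E) ≤ S from fun z _ => hcon z)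
    rw [finrank_top, Module.finrank_fintype_fun_eq_card, Fintype.card_sum, Fintype.card_fin] at h2
    have := h1.trans Finset.card_le_two
    change Module.finrank F S ≤ 2 at this
    omega
  obtain ⟨u1, hu1, e1⟩ := field_step hQ (x := x) (y := z) (by
    by_contra hc
    push Not at hc
    obtain ⟨c, d, e⟩ := mem_line_of_perp hQ hx hc.1 (by rw [hQ.adj]; exact hc.2)
    exact hz (Submodule.mem_span_pair.2 ⟨c, d, e.symm⟩))
  obtain ⟨u2, hu2, e2⟩ := field_step hQ (x := z) (y := y) (by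
    by_contra hc
    push Not at hc
    have c1 : form y z = 0 := by rw [form_swap, hc.1, neg_zero]
    have c2 : form (j *ᵥ y) z = 0 := by rw [form_swap, hc.2, neg_zero]
    obtain ⟨c, d, e⟩ := mem_line_of_perp hQ hy c1 c2
    refine hz (Submodule.mem_span_pair.2 ⟨c * a + d * (b * r), c * b + d * (a + b * p), ?_⟩)
    rw [e, hab, Matrix.mulVec_add, Matrix.mulVec_smul, Matrix.mulVec_smul, hQ.sq]
    module)
  exact ⟨u2 * u1, Subgroup.mul_mem _ hu2 hu1, by rw [mul_mulVec, e1, e2]⟩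

lemma mem_normalizer_of_lines (g : GLE)
    (h : ∀ x : E, ∃ a b : F, (g : Mat) *ᵥ (j *ᵥ x) =
      a • ((g : Mat) *ᵥ x) + b • (j *ᵥ ((g : Mat) *ᵥ x))) : g ∈ subalgebraNormalizer K := by
  set T : E → E := fun y => (g : Mat) *ᵥ (j *ᵥ (((g⁻¹ : GLE) : Mat) *ᵥ y))
  have hT : ∀ y, ∃ a b : F, T y = a • y + b • (j *ᵥ y) := fun y => by
    obtain ⟨a, b, e⟩ := h (((g⁻¹ : GLE) : Mat) *ᵥ y)
    rw [mulVec_inv_mulVec] at e
    exact ⟨a, b, e⟩
  have hTadd : ∀ x y, T (x + y) = T x + T y := fun x y => by simp only [T, Matrix.mulVec_add]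
  -- two independent lines determine the same coefficients
  have hsame : ∀ x y : E, x ≠ 0 → (∀ c d : F, y ≠ c • x + d • (j *ᵥ x)) → ∀ a b a' b' : F,
      T x = a • x + b • (j *ᵥ x) → T y = a' • y + b' • (j *ᵥ y) → a = a' ∧ b = b' := by
    intro x y hx hy a b a' b' hTx hTy
    have hy0 : y ≠ 0 := fun e => hy 0 0 (by rw [e, zero_smul, zero_smul, add_zero])
    obtain ⟨c, d, e⟩ := hT (x + y)
    rw [hTadd, hTx, hTy, Matrix.mulVec_add] at e
    have h0 : (a' - c) • y + (b' - d) • (j *ᵥ y) = (c - a) • x + (d - b) • (j *ᵥ x) := by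
      linear_combination (norm := module) e
    by_cases hk : a' - c = 0 ∧ b' - d = 0
    · rw [hk.1, hk.2, zero_smul, zero_smul, add_zero] at h0
      obtain ⟨h1, h2⟩ := hQ.indep x hx _ _ h0.symm
      exact ⟨by linear_combination -h1 - hk.1, by linear_combination -h2 - hk.2⟩
    exfalso
    set α := a' - c
    set β := b' - d
    set N := α ^ 2 + p * α * β - r * β ^ 2
    have hN : N ≠ 0 := fun e => hk (by
      obtain ⟨h1, h2⟩ := norm_eq_zero hQ (X := β) (Y := -α) (by linear_combination e)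
      exact ⟨neg_eq_zero.1 h2, h1⟩)
    -- multiply by the conjugate
    have h1 := congrArg (fun z => (α + p * β) • z - β • (j *ᵥ z)) h0
    simp only [Matrix.mulVec_add, Matrix.mulVec_smul, hQ.sq] at h1
    refine hy ((((α + p * β) * (c - a) - β * (r * (d - b)))) / N)
      ((((α + p * β) * (d - b) - β * ((c - a) + p * (d - b)))) / N) ?_
    apply smul_right_injective E hN
    show N • y = N • _
    rw [smul_add, smul_smul, smul_smul, mul_div_cancel₀ _ hN, mul_div_cancel₀ _ hN]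
    linear_combination (norm := skip) h1
    simp only [N]
    module
  obtain ⟨x0, hx0⟩ : ∃ x : E, x ≠ 0 := exists_ne 0
  obtain ⟨z0, hz0⟩ : ∃ z : E, ∀ c d : F, z ≠ c • x0 + d • (j *ᵥ x0) := by
    obtain ⟨w, hw⟩ := exists_form_ne_zero hx0
    refine ⟨w, fun c d e => hw ?_⟩
    rw [e, form_add_right, form_smul_right, form_smul_right, form_self, hQ.alt, mul_zero, mul_zero, add_zero]
  have hz00 : z0 ≠ 0 := fun e => hz0 0 0 (by rw [e, zero_smul, zero_smul, add_zero])
  obtain ⟨a, b, hx⟩ := hT x0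
  obtain ⟨a', b', hz⟩ := hT z0
  obtain ⟨rfl, rfl⟩ := hsame x0 z0 hx0 hz0 a b a' b' hx hz
  have hall : ∀ y, T y = a • y + b • (j *ᵥ y) := by
    intro y
    by_cases hy : ∀ c d : F, y ≠ c • x0 + d • (j *ᵥ x0)
    · obtain ⟨c, d, e⟩ := hT y
      obtain ⟨rfl, rfl⟩ := hsame x0 y hx0 hy a b c d hx e
      exact e
    push Not at hy
    obtain ⟨c, d, rfl⟩ := hy
    have h1 : ∀ c' d' : F, c • x0 + d • (j *ᵥ x0) + z0 ≠ c' • x0 + d' • (j *ᵥ x0) := fun c' d' e =>
      hz0 (c' - c) (d' - d) (by linear_combination (norm := module) e)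
    obtain ⟨c', d', e⟩ := hT (c • x0 + d • (j *ᵥ x0) + z0)
    obtain ⟨rfl, rfl⟩ := hsame x0 _ hx0 h1 a b c' d' hx e
    rw [hTadd, hz] at e
    rw [Matrix.mulVec_add] at e
    linear_combination (norm := module) e
  have := Fintype.ofFinite F
  refine CfsgLib.Elusive.mem_normalizer_of_conj fun k hk => ?_
  obtain ⟨α, β, rfl⟩ := (hQ.span k).1 hk
  refine (hQ.span _).2 ⟨α + β * a, β * b, Matrix.ext_iff_mulVec.2 fun y => ?_⟩
  have h1 := hall y
  simp only [T] at h1
  simp only [← Matrix.mulVec_mulVec, Matrix.add_mulVec, Matrix.smul_mulVec, Matrix.one_mulVec,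
    Matrix.mulVec_add, Matrix.mulVec_smul, mulVec_inv_mulVec, h1]
  module

/-- Any overgroup outside the normaliser contains every transvection. -/
theorem field_key (hsq : ∀ a : F, ∃ t, t ^ 2 = a) (hq : ∃ τ : F, τ ≠ 0 ∧ τ ≠ 1)
    {M : Subgroup GLE} (hM : subalgebraNormalizer K ⊓ spGL 2 F ≤ M) (hMI : M ≤ spGL 2 F)
    (hMX : ¬ M ≤ subalgebraNormalizer K) : spGL 2 F ≤ M := by
  obtain ⟨g, hgM, hgK⟩ := SetLike.not_le_iff_exists.1 hMX
  obtain ⟨x1, hx1⟩ : ∃ x : E, ∀ a b : F, (g : Mat) *ᵥ (j *ᵥ x) ≠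
      a • ((g : Mat) *ᵥ x) + b • (j *ᵥ ((g : Mat) *ᵥ x)) := by
    by_contra hcon
    push Not at hcon
    exact hgK (mem_normalizer_of_lines hQ g hcon)
  set v := (g : Mat) *ᵥ x1 with hv
  set a := j *ᵥ v with ha
  set b := (g : Mat) *ᵥ (j *ᵥ x1) with hb
  have hv0 : v ≠ 0 := fun e => hx1 0 0 (by
    have hx0 : x1 = 0 := by rw [← inv_mulVec_mulVec g x1, ← hv, e, Matrix.mulVec_zero]
    simp [hb, ha, hv, hx0])
  have hva : form v a = 0 := hQ.alt v
  have hav : form a v = 0 := alt' hQ v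
  have hbv : form b v = 0 := by rw [hb, hv, form_mulVec (hMI hgM), alt' hQ]
  set β := form a b with hβdef
  have hβ : β ≠ 0 := fun e => by
    obtain ⟨c, d, he⟩ := mem_line_of_perp hQ hv0 (y := b) (by rw [form_swap, hbv, neg_zero]) e
    exact hx1 c d he
  -- shears fixing `v`
  have sha : ∀ C : F, ∃ u ∈ M, (u : Mat) *ᵥ v = v ∧
      ∀ x, form x v = 0 → (u : Mat) *ᵥ x = x + (C * form x a) • a := fun C => by
    obtain ⟨u, hu, hue⟩ := exists_ktv hQ v 0 C
    refine ⟨u, hM hu, ?_, fun x hx => ?_⟩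
    · simp [hue, form_self, hva, ← ha]
    · simp [hue, hx, ← ha]
  have shb : ∀ C : F, ∃ u ∈ M, (u : Mat) *ᵥ v = v ∧
      ∀ x, form x v = 0 → (u : Mat) *ᵥ x = x + (C * form x b) • b := fun C => by
    obtain ⟨u, hu, hue⟩ := exists_ktv hQ x1 0 C
    have e : ∀ x, form x v = 0 → ((g * u * g⁻¹ : GLE) : Mat) *ᵥ x = x + (C * form x b) • b := by
      intro x hx
      set y := ((g⁻¹ : GLE) : Mat) *ᵥ x
      have hxy : x = (g : Mat) *ᵥ y := (mulVec_inv_mulVec g x).symm
      have h1 : form y x1 = 0 := by rw [← form_mulVec (hMI hgM), ← hxy]; exact hx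
      have h2 : form x b = form y (j *ᵥ x1) := by rw [hxy, hb, form_mulVec (hMI hgM)]
      rw [mul_mulVec, mul_mulVec, show ((g⁻¹ : GLE) : Mat) *ᵥ x = y from rfl, hue, h1, h2,
        Matrix.mulVec_add, Matrix.mulVec_add, Matrix.mulVec_smul, Matrix.mulVec_smul, ← hxy, ← hb]
      simp
    refine ⟨g * u * g⁻¹, M.mul_mem (M.mul_mem hgM (hM hu)) (M.inv_mem hgM), ?_, e⟩
    rw [e v (form_self v), form_swap v b, hbv]
    simp
  -- one root element
  obtain ⟨A, hAM, s, hA⟩ : ∃ A ∈ M, ∃ s, IsSE (1 : F) A v a s := by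
    obtain ⟨u, hu, hue⟩ := exists_ktv hQ v 1 0
    refine ⟨u, hM hu, -p, fun y => ?_⟩
    rw [hue, be, be, ← ha]
    module
  have conjv : ∀ {u : GLE} {B : GLE} {x : E} {t : F}, u ∈ M → (u : Mat) *ᵥ v = v → B ∈ M →
      IsSE (1 : F) B v x t → u * B * u⁻¹ ∈ M ∧ IsSE (1 : F) (u * B * u⁻¹) v ((u : Mat) *ᵥ x) t := by
    intro u B x t hu huv hB hBe
    refine ⟨M.mul_mem (M.mul_mem hu hB) (M.inv_mem hu), ?_⟩
    have := hBe.conj (hMI hu)
    rwa [huv] at this
  obtain ⟨c, hc0, hcM⟩ : ∃ c : F, c ≠ 0 ∧ stv v c ∈ M := by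
    by_contra hcon
    push Not at hcon
    have huniq : ∀ {B B' : GLE} {x : E} {t t' : F}, form x v = 0 → B ∈ M → B' ∈ M → IsSE (1 : F) B v x t →
        IsSE (1 : F) B' v x t' → t = t' := by
      intro B B' x t t' hx hB hB' hBe hBe'
      have h1 := hBe.mul hx (show form (-x) v = 0 by rw [← neg_one_smul F x, form_smul_left, hx, mul_zero])
        (hBe'.inv hx)
      rw [add_neg_cancel, show be 1 (-x) x = 0 by
        rw [be, ← neg_one_smul F x, form_smul_left, form_self, mul_zero, mul_zero], add_zero] at h1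
      by_contra hne
      refine hcon (1 * (t + -t')) (by rw [one_mul, ← sub_eq_add_neg]; exact sub_ne_zero.2 hne) ?_
      rw [← h1.eq_stv]
      exact M.mul_mem hB (M.inv_mem hB')
    have hba : form b a = -β := by rw [form_swap]
    have P1 : ∀ t : F, ∃ B ∈ M, IsSE (1 : F) B v (a + t • b) s := fun t => by
      obtain ⟨u, hu, huv, hue⟩ := shb (t / β)
      have h1 := conjv hu huv hAM hA
      rw [hue a hav, ← hβdef, div_mul_cancel₀ t hβ] at h1
      exact ⟨_, h1.1, h1.2⟩
    have P2 : ∀ t : F, t ≠ 0 → s = -t * β := fun t ht => by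
      obtain ⟨B, hB, hBe⟩ := P1 t
      have htb : form (t • b) v = 0 := by rw [form_smul_left, hbv, mul_zero]
      have hatb : form (a + t • b) v = 0 := by rw [form_add_left, hav, htb, add_zero]
      have h1 := hBe.mul hatb (show form (-a) v = 0 by rw [← neg_one_smul F a, form_smul_left, hav, mul_zero])
        (hA.inv hav)
      rw [show a + t • b + -a = t • b by abel, show s + -s + be 1 (-a) (a + t • b) = -t * β by
        rw [be, ← neg_one_smul F a, form_smul_left, form_add_right, form_smul_right, form_self, hβdef]; ring] at h1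
      obtain ⟨u, hu, huv, hue⟩ := sha (-(1 / (t * β)))
      have h2 := conjv hu huv (M.mul_mem hB (M.inv_mem hAM)) h1
      rw [hue _ htb, show -(1 / (t * β)) * form (t • b) a = 1 by rw [form_smul_left, hba]; field_simp,
        one_smul, add_comm (t • b)] at h2
      exact huniq hatb hB h2.1 hBe h2.2
    obtain ⟨τ, hτ0, hτ1⟩ := hq
    have h1 := P2 1 one_ne_zero
    rw [P2 τ hτ0] at h1
    exact hτ1 (mul_right_cancel₀ hβ (by linear_combination -h1))
  -- all transvections
  have hfull : Full M v := fun d => by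
    rcases eq_or_ne d 0 with rfl | hd
    · rw [show stv v (0 : F) = 1 from gl_ext_mulVec fun x => by simp [stv_mulVec]]
      exact M.one_mem
    obtain ⟨t, ht⟩ := hsq (d / c)
    have ht0 : t ≠ 0 := fun e => by
      rw [e, zero_pow (by norm_num), eq_comm, div_eq_zero_iff] at ht
      exact ht.elim hd hc0
    obtain ⟨u, hu, hue⟩ := field_move hQ hv0 (smul_ne_zero ht0 hv0)
    have h1 := M.mul_mem (M.mul_mem (hM hu) hcM) (M.inv_mem (hM hu))
    rwa [stv_conj hu.2, hue, stv_smul, ht, div_mul_cancel₀ _ hc0] at h1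
  refine spGL_le_of_full fun y => ?_
  rcases eq_or_ne y 0 with rfl | hy
  · exact full_zero
  obtain ⟨u, hu, rfl⟩ := field_move hQ hv0 hy
  exact full_conj hMI hfull (hM hu)

theorem field_proper : ¬ spGL 2 F ≤ subalgebraNormalizer K := by
  intro h
  obtain ⟨v, hv⟩ : ∃ v : E, v ≠ 0 := exists_ne 0
  obtain ⟨y, hy⟩ := exists_form_eq_one hv
  have hyv : form y v = -1 := by rw [form_swap, hy]
  set g : GLE := stv v 1 with hg
  obtain ⟨α, β, hk⟩ := (hQ.span _).1 ((h (stv_mem v 1) j).1 ((hQ.span j).2 ⟨0, 1, by simp⟩))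
  have hgj : ∀ z : E, (g : Mat) *ᵥ (j *ᵥ z) = α • ((g : Mat) *ᵥ z) + β • (j *ᵥ ((g : Mat) *ᵥ z)) := fun z => by
    have h1 := congrArg (fun A : Mat => A *ᵥ ((g : Mat) *ᵥ z)) hk
    simpa only [← Matrix.mulVec_mulVec, ← hg, inv_mulVec_mulVec, Matrix.add_mulVec, Matrix.smul_mulVec,
      Matrix.one_mulVec] using h1
  have h1 := hgj v
  simp only [g, stv_mulVec, form_self, alt' hQ, mul_zero, zero_smul, add_zero] at h1
  obtain ⟨h2, h3⟩ := hQ.indep v hv α (β - 1) (by linear_combination (norm := module) -h1)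
  have h4 := hgj y
  simp only [g, stv_mulVec, h2, sub_eq_zero.1 h3, Matrix.mulVec_add, Matrix.mulVec_smul, hyv, one_mul,
    zero_smul, one_smul, zero_add] at h4
  exact one_ne_zero (hQ.indep v hv (form (j *ᵥ y) v) 1 (by linear_combination (norm := module) h4)).2

omit hQ in
/-- The normaliser of a self-adjoint quadratic field is maximal. -/
theorem field_maximal (hsq : ∀ a : F, ∃ t, t ^ 2 = a) (hq : ∃ τ : F, τ ≠ 0 ∧ τ ≠ 1) (hK : IsFieldSubalgebra 2 K)
    (hsa : IsSelfAdjointFor (sympForm 2 F) K) (halt : ∀ k ∈ K, ∀ v : E, sympForm 2 F (k *ᵥ v) v = 0) :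
    IsMaximalIn (spGL 2 F) (subalgebraNormalizer K ⊓ spGL 2 F) := by
  obtain ⟨j, p, r, h⟩ := exists_quadGen hK hsa halt
  exact isMaximalIn_of_key (field_proper h) fun M h1 h2 h3 => field_key h hsq hq h1 h2 h3

end CfsgLib.Geo.SpFour
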