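/-
In characteristic two the isometry group of a quadratic form polarising to the symplectic form is maximal, in every
rank at least two, over more than two scalars.
-/
import Cfsg.Agent.Geo.SympTv

set_option autoImplicit false
set_option linter.unusedSectionVars false

namespace CfsgLib.Geo.SpFour

open Matrix Cfsg Cfsg.Geo CfsgLib.Symp CfsgLib.Geo.SpTv

variable {m : ℕ} {F : Type*} [Field F]

local notation "E" => Fin m ⊕ Fin m → F
local notation "MatE" => Matrix (Fin m ⊕ Fin m) (Fin m ⊕ Fin m) F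

variable {Q : (Fin m ⊕ Fin m → F) → F} (h2 : (2 : F) = 0) (hm : 2 ≤ m)
  (hq : ∃ τ : F, τ ≠ 0 ∧ τ ≠ 1)
  (hQs : ∀ (c : F) (v : Fin m ⊕ Fin m → F), Q (c • v) = c ^ 2 * Q v)
  (hQa : ∀ u v : Fin m ⊕ Fin m → F, Q (u + v) = Q u + Q v + form u v)
  (hsq : ∀ a : F, ∃ t, t ^ 2 = a)
include h2 hm hq hQs hQa hsq

lemma quad_zero : Q (0 : E) = 0 := by
  rw [← zero_smul F (0 : E), hQs]; ring

lemma stv_mem_quadSim (v : E) (hv : Q v ≠ 0) : stv v (Q v)⁻¹ ∈ quadSimilarityGroup Q ⊓ spGL m F := by
  refine ⟨⟨1, fun x => ?_⟩, stv_mem _ _⟩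
  rw [stv_mulVec, hQa, hQs, form_smul_right, Units.val_one, one_mul]
  field_simp
  linear_combination (form x v ^ 2) * h2

/-- The orthogonal of a hyperbolic pair has a vector with any value of `Q`. -/
lemma exists_value_perp_pair {a b : E} (hab : form a b ≠ 0) (s : F) :
    ∃ y, form a y = 0 ∧ form b y = 0 ∧ Q y = s := by
  have hba : form b a ≠ 0 := by rw [form_swap, neg_ne_zero]; exact hab
  let π : E → E := fun x => x - (form a x / form a b) • b - (form b x / form b a) • a
  have hπa : ∀ x, form a (π x) = 0 := fun x => by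
    simp only [π, form_sub_right, form_smul_right, form_self, div_mul_cancel₀ _ hab]; ring
  have hπb : ∀ x, form b (π x) = 0 := fun x => by
    simp only [π, form_sub_right, form_smul_right, form_self, div_mul_cancel₀ _ hba]; ring
  obtain ⟨z, hz⟩ : ∃ z : E, z ∉ Submodule.span F ({a, b} : Set E) := by
    by_contra hcon
    push Not at hcon
    classical
    have h1 := (finrank_span_finset_le_card (R := F) ({a, b} : Finset E)).trans Finset.card_le_two
    rw [Finset.coe_pair] at h1
    have h3 := Submodule.finrank_mono (show (⊤ : Submodule F E) ≤ Submodule.span F {a, b} from fun z _ => hcon z)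
    rw [finrank_top, Module.finrank_fintype_fun_eq_card, Fintype.card_sum, Fintype.card_fin] at h3
    change Module.finrank F (Submodule.span F ({a, b} : Set E)) ≤ 2 at h1
    omega
  have hz0 : π z ≠ 0 := fun e => hz (by
    have : z = (form b z / form b a) • a + (form a z / form a b) • b := by
      linear_combination (norm := module) e
    exact Submodule.mem_span_pair.2 ⟨_, _, this.symm⟩)
  obtain ⟨w, hw⟩ := exists_form_ne_zero hz0
  have hzw : form (π z) (π w) = form (π z) w := by
    have e1 : form (π z) a = 0 := by rw [form_swap, hπa, neg_zero]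
    have e2 : form (π z) b = 0 := by rw [form_swap, hπb, neg_zero]
    rw [show π w = w - (form a w / form a b) • b - (form b w / form b a) • a from rfl, form_sub_right, form_sub_right,
      form_smul_right, form_smul_right, e1, e2]
    ring
  obtain ⟨y0, hya, hyb, hy0⟩ : ∃ y0, form a y0 = 0 ∧ form b y0 = 0 ∧ Q y0 ≠ 0 := by
    by_cases h1 : Q (π z) = 0
    · by_cases h3 : Q (π w) = 0
      · exact ⟨π z + π w, by rw [form_add_right, hπa, hπa, add_zero], by rw [form_add_right, hπb, hπb, add_zero],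
          by rw [hQa, h1, h3, hzw]; simpa using hw⟩
      · exact ⟨π w, hπa w, hπb w, h3⟩
    · exact ⟨π z, hπa z, hπb z, h1⟩
  obtain ⟨t, ht⟩ := hsq (s / Q y0)
  exact ⟨t • y0, by rw [form_smul_right, hya, mul_zero], by rw [form_smul_right, hyb, mul_zero],
    by rw [hQs, ht, div_mul_cancel₀ s hy0]⟩

variable {M : Subgroup (GL (Fin m ⊕ Fin m) F)}

lemma quadSim_move_step (hM : quadSimilarityGroup Q ⊓ spGL m F ≤ M) {u v : E} (hQ : Q u = Q v)
    (h : form u v ≠ 0) : ∃ g ∈ M, (g : MatE) *ᵥ u = v := by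
  have hd : Q (u + v) = form u v := by
    rw [hQa, hQ, ← two_mul, h2, zero_mul, zero_add]
  refine ⟨_, hM (stv_mem_quadSim h2 hm hq hQs hQa hsq (u + v) (by rwa [hd])), ?_⟩
  rw [stv_mulVec, hd, form_add_right, form_self, zero_add, inv_mul_cancel₀ h, one_smul, ← add_assoc,
    show u + u = (0 : E) from funext fun i => by simp [← two_mul, h2], zero_add]

/-- Non-zero vectors with the same value of `Q` are conjugate inside `M`. -/
lemma quadSim_move (hM : quadSimilarityGroup Q ⊓ spGL m F ≤ M) {u v : E} (hu : u ≠ 0) (hv : v ≠ 0)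
    (hQ : Q u = Q v) : ∃ g ∈ M, (g : MatE) *ᵥ u = v := by
  by_cases h : form u v = 0
  · obtain ⟨x, hx1, hx2⟩ : ∃ x, form u x ≠ 0 ∧ form v x ≠ 0 := by
      obtain ⟨a, ha⟩ := exists_form_ne_zero hu
      obtain ⟨b, hb⟩ := exists_form_ne_zero hv
      by_cases ha2 : form v a = 0
      · by_cases hb2 : form u b = 0
        · exact ⟨a + b, by rwa [form_add_right, hb2, add_zero], by rwa [form_add_right, ha2, zero_add]⟩
        · exact ⟨b, hb2, hb⟩
      · exact ⟨a, ha, ha2⟩
    have hvu : form v u = 0 := by rw [form_swap, h, neg_zero]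
    obtain ⟨x, hx1, hx2, hx3⟩ : ∃ x, form u x ≠ 0 ∧ form v x ≠ 0 ∧ Q x ≠ 0 := by
      by_cases hQx : Q x ≠ 0
      · exact ⟨x, hx1, hx2, hQx⟩
      push Not at hQx
      obtain ⟨c, hc0, hc⟩ : ∃ c : F, c ≠ 0 ∧ c * Q u + form x u ≠ 0 := by
        obtain ⟨τ, hτ0, hτ1⟩ := hq
        by_cases h1 : (1 : F) * Q u + form x u = 0
        · refine ⟨τ, hτ0, fun h' => ?_⟩
          have h3 : (τ - 1) * Q u = 0 := by linear_combination h' - h1
          rw [(mul_eq_zero.1 h3).resolve_left (sub_ne_zero.2 hτ1), mul_zero, zero_add, form_swap, neg_eq_zero] at h1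
          exact hx1 h1
        · exact ⟨1, one_ne_zero, h1⟩
      refine ⟨x + c • u, ?_, ?_, ?_⟩
      · rwa [form_add_right, form_smul_right, form_self, mul_zero, add_zero]
      · rwa [form_add_right, form_smul_right, hvu, mul_zero, add_zero]
      · rw [hQa, hQx, hQs, form_smul_right, zero_add, show c ^ 2 * Q u + c * form x u = c * (c * Q u + form x u) by ring]
        exact mul_ne_zero hc0 hc
    set l := form u x / Q x with hl
    have hl0 : l ≠ 0 := div_ne_zero hx1 hx3
    have hQz : Q (u + l • x) = Q u := by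
      rw [hQa, hQs, form_smul_right, hl]
      field_simp
      linear_combination (form u x ^ 2) * h2
    obtain ⟨g1, hg1, e1⟩ := quadSim_move_step h2 hm hq hQs hQa hsq hM hQz.symm (v := u + l • x) (by
      rw [form_add_right, form_self, zero_add, form_smul_right]; exact mul_ne_zero hl0 hx1)
    obtain ⟨g2, hg2, e2⟩ := quadSim_move_step h2 hm hq hQs hQa hsq hM (hQz.trans hQ) (by
      rw [form_swap, neg_ne_zero, form_add_right, hvu, zero_add, form_smul_right]
      exact mul_ne_zero hl0 hx2)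
    exact ⟨g2 * g1, M.mul_mem hg2 hg1, by rw [mul_mulVec, e1, e2]⟩
  · exact quadSim_move_step h2 hm hq hQs hQa hsq hM hQ h

theorem quadSim_key (hM : quadSimilarityGroup Q ⊓ spGL m F ≤ M) (hMI : M ≤ spGL m F)
    (hMX : ¬ M ≤ quadSimilarityGroup Q) : spGL m F ≤ M := by
  obtain ⟨g, hgM, hgQ⟩ := SetLike.not_le_iff_exists.1 hMX
  obtain ⟨g, hgM, w, hw, hgw⟩ : ∃ g ∈ M, ∃ w, Q w ≠ 0 ∧ Q ((g : MatE) *ᵥ w) ≠ Q w := by
    by_contra hcon
    push Not at hcon
    refine hgQ ⟨1, fun v => ?_⟩
    rw [Units.val_one, one_mul]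
    by_cases hv : Q v = 0
    · by_contra hne
      rw [hv] at hne
      have := hcon g⁻¹ (M.inv_mem hgM) _ hne
      rw [inv_mulVec_mulVec, hv] at this
      exact hne this.symm
    · exact hcon g hgM v hv
  set u := (g : MatE) *ᵥ w with hu
  have hw0 : w ≠ 0 := fun h0 => hw (by rw [h0]; exact quad_zero h2 hm hq hQs hQa hsq)
  have hu0 : u ≠ 0 := fun h0 => hw0 (by
    rw [← inv_mulVec_mulVec g w, ← hu, h0, Matrix.mulVec_zero])
  have hcM : stv u (Q w)⁻¹ ∈ M := by
    rw [hu, ← stv_conj (hMI hgM)]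
    exact M.mul_mem (M.mul_mem hgM (hM (stv_mem_quadSim h2 hm hq hQs hQa hsq w hw))) (M.inv_mem hgM)
  set c := (Q w)⁻¹ with hc
  have he : c ^ 2 * Q u + c ≠ 0 := by
    have : c ^ 2 * Q u + c = c ^ 2 * (Q u + Q w) := by
      rw [hc]; field_simp
    rw [this]
    refine mul_ne_zero (pow_ne_zero _ (inv_ne_zero hw)) fun h0 => hgw ?_
    linear_combination h0 - (Q w) * h2
  have hone : ∀ v : E, v ≠ 0 → stv v 1 ∈ M := by
    intro v hv
    by_cases hv1 : Q v = 1
    · simpa [hv1] using hM (stv_mem_quadSim h2 hm hq hQs hQa hsq v (by simp [hv1]))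
    obtain ⟨β, hβ⟩ := hsq ((Q v + 1) / (c ^ 2 * Q u + c))
    have hβ0 : β ≠ 0 := by
      rintro rfl
      rw [zero_pow (by norm_num), eq_comm, div_eq_zero_iff] at hβ
      exact hv1 (by linear_combination (hβ.resolve_right he) - h2)
    obtain ⟨x, hx⟩ := exists_form_eq_one hu0
    obtain ⟨y, hyu, hyx, hQy⟩ := exists_value_perp_pair h2 hm hq hQs hQa hsq (a := u) (b := β • x)
      (by rw [form_smul_right, hx, mul_one]; exact hβ0) (Q (β • x) + 1)
    have hQw' : Q (β • x + y) = 1 := by
      rw [hQa, hyx, hQy]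
      linear_combination Q (β • x) * h2
    have hf : form (β • x + y) u = -β := by
      rw [form_swap, form_add_right, form_smul_right, hx, hyu, mul_one, add_zero]
    have h1 : stv (β • x + y) 1 ∈ M := by
      simpa [hQw'] using hM (stv_mem_quadSim h2 hm hq hQs hQa hsq (β • x + y) (by simp [hQw']))
    have h3 := M.mul_mem (M.mul_mem hcM h1) (M.inv_mem hcM)
    rw [stv_conj (stv_mem _ _), stv_mulVec, hf] at h3
    set z := β • x + y + (c * -β) • u with hz
    have hz0 : z ≠ 0 := by
      intro h0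
      have := congrArg (fun t => form u t) h0
      simp only [hz, form_add_right, form_smul_right, form_self, hx, hyu, form_zero_right, mul_zero,
        add_zero, mul_one] at this
      exact hβ0 this
    have hQz : Q z = Q v := by
      rw [hz, hQa, hQw', hQs, form_smul_right, hf]
      have : β ^ 2 * (c ^ 2 * Q u + c) = Q v + 1 := by rw [hβ, div_mul_cancel₀ _ he]
      linear_combination this + h2
    obtain ⟨h, hhM, hh⟩ := quadSim_move h2 hm hq hQs hQa hsq hM hz0 hv hQz
    have := M.mul_mem (M.mul_mem hhM h3) (M.inv_mem hhM)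
    rwa [stv_conj (hMI hhM), hh] at this
  refine spGL_le_of_full fun v a => ?_
  rcases eq_or_ne v 0 with rfl | hv
  · rw [stv_zero_left]; exact M.one_mem
  rcases eq_or_ne a 0 with rfl | ha
  · rw [show stv v (0 : F) = 1 from gl_ext_mulVec fun x => by simp [stv_mulVec]]
    exact M.one_mem
  obtain ⟨t, ht⟩ := hsq a
  have ht0 : t ≠ 0 := fun h0 => ha (by rw [← ht, h0]; ring)
  have := hone (t • v) (smul_ne_zero ht0 hv)
  rwa [stv_smul, mul_one, ht] at this

theorem quadSim_proper : ¬ spGL m F ≤ quadSimilarityGroup Q := by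
  intro h
  obtain ⟨v, hv, hQv⟩ : ∃ v : E, v ≠ 0 ∧ Q v = 0 := by
    obtain ⟨i⟩ : Nonempty (Fin m) := ⟨⟨0, by omega⟩⟩
    set u : E := Pi.single (Sum.inl i) 1 with hu
    have hu0 : u ≠ 0 := by simp [hu]
    by_cases hQu : Q u = 0
    · exact ⟨u, hu0, hQu⟩
    obtain ⟨x, hx⟩ := exists_form_eq_one hu0
    obtain ⟨y, hyu, hyx, hQy⟩ := exists_value_perp_pair h2 hm hq hQs hQa hsq (a := u) (b := x)
      (by rw [hx]; exact one_ne_zero) (Q u)
    refine ⟨u + y, fun h0 => ?_, ?_⟩
    · have h1 := congrArg (fun t => form x t) h0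
      simp only [form_add_right, hyx, form_swap x u, hx, form_zero_right, add_zero] at h1
      simp at h1
    · rw [hQa, hQy, hyu]
      linear_combination Q u * h2
  obtain ⟨x, hx⟩ := exists_form_eq_one hv
  obtain ⟨c, hc⟩ := h (stv_mem v 1)
  have hc1 : (c : F) = 1 := by
    have h1 := hc (v + x)
    rw [Matrix.mulVec_add, hQa, hQa, hc, hc, form_mulVec (stv_mem v 1), hx] at h1
    linear_combination -h1
  have h3 := hc x
  rw [hc1, one_mul, stv_mulVec, hQa, hQs, hQv, form_smul_right, form_swap x v, hx] at h3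
  exact one_ne_zero (α := F) (by linear_combination h3)

theorem quadSim_maximal : IsMaximalIn (spGL m F) (quadSimilarityGroup Q ⊓ spGL m F) :=
  isMaximalIn_of_key (quadSim_proper h2 hm hq hQs hQa hsq)
    fun _ h1 h3 h4 => quadSim_key h2 hm hq hQs hQa hsq h1 h3 h4

end CfsgLib.Geo.SpFour
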