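/-
A subfield group is maximal in the symplectic group of every rank at least two in characteristic two.
-/
import Cfsg.Agent.Geo.SympSubfieldOvergroup

set_option autoImplicit false
set_option linter.unusedSectionVars false

namespace CfsgLib.Geo.SpFour

open Matrix Cfsg Cfsg.Geo CfsgLib.Symp CfsgLib.Geo.SpTv

variable {m : ℕ} {F : Type*} [Field F] [Finite F]

local notation "E" => Fin m ⊕ Fin m → F
local notation "GLE" => GL (Fin m ⊕ Fin m) F
local notation "MatE" => Matrix (Fin m ⊕ Fin m) (Fin m ⊕ Fin m) F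

/-- A subfield of a finite field of characteristic two is closed under square roots. -/
lemma mem_of_sq_mem (h2 : (2 : F) = 0) {F₀ : Subfield F} {x : F} (h : x ^ 2 ∈ F₀) : x ∈ F₀ := by
  haveI : CharP F 2 := CharTwo.of_one_ne_zero_of_two_eq_zero one_ne_zero h2
  let f : F₀ → F₀ := fun y => ⟨(y : F) ^ 2, F₀.pow_mem y.2 2⟩
  have hf : Function.Injective f := fun y z e => Subtype.ext (frobenius_inj F 2 (congrArg Subtype.val e))
  obtain ⟨y, hy⟩ := Finite.surjective_of_injective hf ⟨_, h⟩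
  rw [show x = (y : F) from frobenius_inj F 2 (congrArg Subtype.val hy).symm]
  exact y.2

variable {F₀ : Subfield F} {P : GL (Fin m ⊕ Fin m) F} {ζ : F} (hS : SpSub m F F₀ P ζ)
include hS

/-- An element of the subfield group with one rational image of a rational vector preserves rationality. -/
lemma rat_of_image {A : GLE} (hA : A ∈ subfieldSubgroup F₀ P) {v : E} (hv : InRS F₀ P v) (hv0 : v ≠ 0)
    (hAv : InRS F₀ P ((A : MatE) *ᵥ v)) {x : E} (hx : InRS F₀ P x) : InRS F₀ P ((A : MatE) *ᵥ x) := by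
  obtain ⟨d, hd0, hd⟩ := exists_scaled_rs_of_mem hA
  have hdF : d ∈ F₀ := by
    have hne : ((P⁻¹ : GLE) : MatE) *ᵥ ((A : MatE) *ᵥ v) ≠ 0 := fun e => hv0 (by
      rw [← inv_mulVec_mulVec A v, ← mulVec_inv_mulVec P ((A : MatE) *ᵥ v), e, Matrix.mulVec_zero,
        Matrix.mulVec_zero])
    obtain ⟨i, hi⟩ : ∃ i, (((P⁻¹ : GLE) : MatE) *ᵥ ((A : MatE) *ᵥ v)) i ≠ 0 := by
      by_contra hc
      push Not at hc
      exact hne (funext hc)
    have h1 := hd v hv i
    rw [Matrix.mulVec_smul, Pi.smul_apply, smul_eq_mul] at h1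
    have h3 := F₀.div_mem h1 (hAv i)
    rwa [mul_div_cancel_right₀ _ hi] at h3
  have h1 := (hd x hx).smul (F₀.inv_mem hdF)
  rwa [smul_smul, inv_mul_cancel₀ hd0, one_smul] at h1

variable {M : Subgroup (GL (Fin m ⊕ Fin m) F)}

omit hS [Finite F] in
/-- The scalars of all short root elements with rational vector parts. -/
def RScal (F₀ : Subfield F) (P : GL (Fin m ⊕ Fin m) F) (ζ : F) (M : Subgroup (GL (Fin m ⊕ Fin m) F))
    (v : Fin m ⊕ Fin m → F) (c : F) : Prop :=
  ∀ x, InRS F₀ P x → form x v = 0 → VP ζ M v (c • x)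

variable (hM : subfieldSubgroup F₀ P ⊓ spGL m F ≤ M) (hMI : M ≤ spGL m F)
include hM hMI

lemma rScal_transport {v w : E} (hv : InRS F₀ P v) (hv0 : v ≠ 0) (hw : InRS F₀ P w) (hw0 : w ≠ 0) {c : F}
    (h : RScal F₀ P ζ M v c) : RScal F₀ P ζ M w c := by
  intro x hx hxw
  obtain ⟨A, hA, hAv⟩ := exists_rat_move hS hv hv0 hw hw0
  have hAw : ((A⁻¹ : GLE) : MatE) *ᵥ w = v := by rw [← hAv, inv_mulVec_mulVec]
  have hx' : InRS F₀ P (((A⁻¹ : GLE) : MatE) *ᵥ x) :=
    rat_of_image hS ((subfieldSubgroup F₀ P).inv_mem hA.1) hw hw0 (by rw [hAw]; exact hv) hx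
  have h1 := (h _ hx' (by rw [← hAw, form_mulVec ((spGL m F).inv_mem hA.2), hxw])).conj hMI (hM hA)
  rwa [hAv, Matrix.mulVec_smul, mulVec_inv_mulVec] at h1

lemma long_transport {v w : E} (hv : InRS F₀ P v) (hv0 : v ≠ 0) (hw : InRS F₀ P w) (hw0 : w ≠ 0) {c : F}
    (h : stv v c ∈ M) : stv w c ∈ M := by
  obtain ⟨A, hA, hAv⟩ := exists_rat_move hS hv hv0 hw hw0
  rw [← hAv, ← stv_conj hA.2]
  exact M.mul_mem (M.mul_mem (hM hA) h) (M.inv_mem (hM hA))

/-- One scalar multiple of one rational vector gives the scalar. -/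
lemma rScal_of_vp {v w0 : E} (hv : InRS F₀ P v) (hw0 : InRS F₀ P w0)
    (hwv : w0 ∉ F ∙ v) {μ : F} (hVP : VP ζ M v (μ • w0)) : RScal F₀ P ζ M v μ := by
  have hspan : ∀ x : E, x ∉ F ∙ v → x ∉ Submodule.span F (Set.range ![v]) := fun x h => by
    simpa [Matrix.range_cons, Matrix.range_empty] using h
  have hv1 : ∀ j : Fin 1, InRS F₀ P (![v] j) := fun j => by simpa using hv
  have hmove : ∀ x z : E, InRS F₀ P z → form z v = 0 → VP ζ M v (μ • x) → ∀ k ∈ F₀,
      VP ζ M v ((μ * (k * be ζ x z)) • z) := by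
    intro x z hz hzv hx k hk
    have h1 := hx.conj hMI (hM (rat_stv_mem hS hz hk))
    rw [stv_mulVec (x := v), form_swap v z, hzv, neg_zero, mul_zero, zero_smul, add_zero, Matrix.mulVec_smul,
      stv_mulVec, smul_add] at h1
    have h2 := h1.sub hx
    rw [add_sub_cancel_left, smul_smul] at h2
    rwa [show μ * (k * be ζ x z) = μ * (ζ * k * form x z) by simp only [be]; ring]
  intro x hx hxv
  by_cases hxm : x ∈ F ∙ v
  · obtain ⟨c, rfl⟩ := Submodule.mem_span_singleton.1 hxm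
    rw [smul_smul]; exact VP.centre v _
  obtain ⟨y1, hy1, e1, f1⟩ := exists_rs_dual hS ![v] hv1 hw0 (hspan _ hwv)
  obtain ⟨y2, hy2, e2, f2⟩ := exists_rs_dual hS ![v] hv1 hx (hspan _ hxm)
  have g1 : form y1 v = 0 := by rw [form_swap, show form v y1 = 0 by simpa using f1 0, neg_zero]
  have g2 : form y2 v = 0 := by rw [form_swap, show form v y2 = 0 by simpa using f2 0, neg_zero]
  obtain ⟨y, hy, hyv, a1, a2⟩ : ∃ y, InRS F₀ P y ∧ form y v = 0 ∧ be ζ w0 y ≠ 0 ∧ be ζ x y ≠ 0 := by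
    by_cases h1 : be ζ x y1 = 0
    · by_cases h2 : be ζ w0 y2 = 0
      · refine ⟨y1 + y2, hy1.add hy2, by rw [form_add_left, g1, g2, add_zero], ?_, ?_⟩
        · simp only [be, form_add_right, mul_add] at e1 h2 ⊢; rw [e1, h2, add_zero]; exact one_ne_zero
        · simp only [be, form_add_right, mul_add] at e2 h1 ⊢; rw [e2, h1, zero_add]; exact one_ne_zero
      · exact ⟨y2, hy2, g2, h2, by rw [e2]; exact one_ne_zero⟩
    · exact ⟨y1, hy1, g1, by rw [e1]; exact one_ne_zero, h1⟩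
  have h1 := hmove w0 y hy hyv hVP _ (F₀.inv_mem (be_mem hS hw0 hy))
  rw [inv_mul_cancel₀ a1, mul_one] at h1
  have a3 : be ζ y x ≠ 0 := by rw [be, form_swap, mul_neg, neg_ne_zero]; exact a2
  have h2 := hmove y x hx hxv h1 _ (F₀.inv_mem (be_mem hS hy hx))
  rwa [inv_mul_cancel₀ a3, mul_one] at h2

/-- Short root elements with a known long part. -/
lemma short_long {v w : E} (hv : InRS F₀ P v) (hw : InRS F₀ P w) (hwv : form w v = 0) (hwm : w ∉ F ∙ v)
    {a τ : F} (ha : RScal F₀ P ζ M v a) (hτ : stv w (ζ * τ) ∈ M) :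
    ∃ A ∈ M, IsSE ζ A v ((a * τ) • w) (-(a ^ 2 * τ)) := by
  obtain ⟨y, hy, hwy, hyu⟩ := exists_rs_dual hS ![v] (fun j => by simpa using hv) hw
    (by simpa [Matrix.range_cons, Matrix.range_empty] using hwm)
  have hyv : form (-y) v = 0 := by
    rw [← neg_one_smul F y, form_smul_left, form_swap, show form v y = 0 by simpa using hyu 0, neg_zero, mul_zero]
  obtain ⟨hay, A, hA, s, hs⟩ := ha (-y) hy.neg hyv
  have hs' := hs.conj (hMI hτ)
  have hg : (stv w (ζ * τ) : MatE) *ᵥ (a • -y) = a • -y + (a * τ) • w := by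
    rw [Matrix.mulVec_smul, stv_mulVec, smul_add, smul_smul, ← neg_one_smul F y, form_smul_left, form_swap y w]
    simp only [be] at hwy
    rw [show a * (ζ * τ * (-1 * -form w y)) = a * τ by linear_combination a * τ * hwy]
  rw [stv_mulVec (x := v), form_swap v w, hwv, neg_zero, mul_zero, zero_smul, add_zero, hg] at hs'
  have hwy' : form (a • -y + (a * τ) • w) v = 0 := by
    rw [form_add_left, hay, form_smul_left, hwv, mul_zero, add_zero]
  have h2 := hs'.mul hwy' (by rw [← neg_one_smul F (a • -y), form_smul_left, hay, mul_zero]) (hs.inv hay)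
  refine ⟨_, M.mul_mem (M.mul_mem (M.mul_mem hτ hA) (M.inv_mem hτ)) (M.inv_mem hA), ?_⟩
  have ex : a • -y + (a * τ) • w + -(a • -y) = (a * τ) • w := by abel
  have es : s + -s + be ζ (-(a • -y)) (a • -y + (a * τ) • w) = -(a ^ 2 * τ) := by
    rw [show -(a • -y) = a • y by module]
    simp only [be, form_smul_left, form_smul_right, form_add_right, ← neg_one_smul F y, form_self,
      form_swap y w] at hwy ⊢
    linear_combination (-(a ^ 2 * τ)) * hwy
  rwa [ex, es] at h2

lemma rat_long {w : E} (hw : InRS F₀ P w) : stv w (ζ * 1) ∈ M := hM (rat_stv_mem hS hw F₀.one_mem)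

omit hS hM in
lemma long_of_short {A B : GLE} {v x : E} {s t : F} (hx : form x v = 0) (hA : A ∈ M) (hB : B ∈ M)
    (hAe : IsSE ζ A v x s) (hBe : IsSE ζ B v x t) : stv v (ζ * (s - t)) ∈ M := by
  have h1 := hAe.mul hx (show form (-x) v = 0 by rw [← neg_one_smul F x, form_smul_left, hx, mul_zero])
    (hBe.inv hx)
  rw [add_neg_cancel, show s + -t + be ζ (-x) x = s - t by
    rw [be, ← neg_one_smul F x, form_smul_left, form_self]; ring] at h1
  rw [← h1.eq_stv]
  exact M.mul_mem hA (M.inv_mem hB)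

/-- The parabolic step in characteristic two. -/
theorem spGL_le_of_scalar {r : ℕ} (h2 : (2 : F) = 0) (hm : 2 ≤ m) (hr : r.Prime)
    (hcard : Nat.card F = Nat.card F₀ ^ r) {v w0 : E} (hv : InRS F₀ P v)
    (hv0 : v ≠ 0) (hw0 : InRS F₀ P w0) (hwv : w0 ∉ F ∙ v) {μ : F} (hμ : μ ∉ F₀)
    (hVP : VP ζ M v (μ • w0)) : spGL m F ≤ M := by
  haveI : CharP F 2 := CharTwo.of_one_ne_zero_of_two_eq_zero one_ne_zero h2
  let S : Set F := {c | RScal F₀ P ζ M v c}
  let T : Set F := {c | stv v (ζ * c) ∈ M}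
  have hS0 : ∀ c ∈ F₀, c ∈ S := fun c hc x hx hxv => by
    obtain ⟨A, hA, hE⟩ := rat_se_mem hS hv (hx.smul hc) (by rw [form_smul_left, hxv, mul_zero])
    exact ⟨by rw [form_smul_left, hxv, mul_zero], A, hM hA, 0, hE⟩
  have hSadd : ∀ a ∈ S, ∀ b ∈ S, a + b ∈ S := fun a ha b hb x hx hxv => by
    rw [add_smul]; exact (ha x hx hxv).add (hb x hx hxv)
  have hμS : μ ∈ S := rScal_of_vp hS hM hMI hv hw0 hwv hVP
  -- a rational frame
  obtain ⟨p, hp, hvp, -⟩ := exists_rs_dual hS (Fin.elim0 : Fin 0 → E) (fun j => j.elim0) hv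
    (by simpa using hv0)
  obtain ⟨w, hw, hwu, hwm⟩ := exists_rs_perp hS ![v, p] (Fin.forall_fin_two.2 ⟨hv, hp⟩) ![v] (by omega)
  have hwv' : form w v = 0 := by rw [form_swap, show form v w = 0 by simpa using hwu 0, neg_zero]
  have hpw : form p w = 0 := by simpa using hwu 1
  have hwm' : w ∉ F ∙ v := by simpa [Matrix.range_cons, Matrix.range_empty] using hwm
  have hw0' : w ≠ 0 := fun e => hwm' (e ▸ Submodule.zero_mem _)
  have hvp' : ζ * form v p = 1 := hvp
  have hpv : ζ * form p v = 1 := by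
    rw [form_swap, CharTwo.neg_eq]; exact hvp'
  -- squares of scalars against long parts
  have hST : ∀ a ∈ S, ∀ τ ∈ T, a * τ ∈ S ∧ a ^ 2 * (τ + τ ^ 2) ∈ T := by
    intro a ha τ hτ
    have hτw := long_transport hS hM hMI hv hv0 hw hw0' hτ
    obtain ⟨A, hA, hAe⟩ := short_long hS hM hMI hv hw hwv' hwm' ha hτw
    have hpv' : form ((a * τ) • w) v = 0 := by rw [form_smul_left, hwv', mul_zero]
    have haτ : RScal F₀ P ζ M v (a * τ) := rScal_of_vp hS hM hMI hv hw hwm' ⟨hpv', A, hA, _, hAe⟩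
    obtain ⟨B, hB, hBe⟩ := short_long hS hM hMI hv hw hwv' hwm' haτ (rat_long hS hM hMI hw)
    rw [mul_one] at hBe
    refine ⟨haτ, ?_⟩
    have h1 := long_of_short hMI hpv' hA hB hAe hBe
    show stv v (ζ * _) ∈ M
    convert h1 using 3
    rw [CharTwo.sub_eq_add, CharTwo.neg_eq, CharTwo.neg_eq]
    ring
  -- a new long part
  have hcube : ∀ a ∈ S, a ^ 4 + a ^ 6 ∈ T := by
    intro a ha
    obtain ⟨A, hA, hAe⟩ := short_long hS hM hMI hv hw hwv' hwm' ha (rat_long hS hM hMI hw)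
    have hpm : p ∉ F ∙ w := fun h => by
      obtain ⟨c, hc⟩ := Submodule.mem_span_singleton.1 h
      have h1 : ζ * form v p = 0 := by rw [← hc, form_smul_right, form_swap, hwv']; ring
      rw [hvp'] at h1
      exact one_ne_zero h1
    have haw : RScal F₀ P ζ M w a := rScal_transport hS hM hMI hv hv0 hw hw0' ha
    obtain ⟨B, hB, hBe⟩ := short_long hS hM hMI hw hp hpw hpm haw (rat_long hS hM hMI hp)
    simp only [mul_one, CharTwo.neg_eq] at hAe hBe
    have hc := hBe.conj (hMI hA)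
    have e1 : (A : MatE) *ᵥ w = w := by
      rw [hAe w]
      simp [be, form_smul_right, form_self, hwv']
    have e2 : (A : MatE) *ᵥ (a • p) = a • p + a ^ 3 • v + a ^ 2 • w := by
      rw [hAe]
      simp only [be, form_smul_left, form_smul_right, hpw]
      match_scalars
      · ring
      · linear_combination (a ^ 3) * hpv
      · linear_combination (a ^ 2) * hpv
    rw [e1, e2] at hc
    have hvw : form v w = 0 := by rw [form_swap, hwv', neg_zero]
    have p1 : form (a • p + a ^ 3 • v + a ^ 2 • w) w = 0 := by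
      rw [form_add_left, form_add_left, form_smul_left, form_smul_left, form_smul_left, hpw, hvw, form_self]; ring
    have h1 := hc.mul p1 (show form (-(a • p)) w = 0 by
      rw [← neg_one_smul F (a • p), form_smul_left, form_smul_left, hpw]; ring) (hBe.inv (by
      rw [form_smul_left, hpw, mul_zero]))
    rw [show a • p + a ^ 3 • v + a ^ 2 • w + -(a • p) = a ^ 3 • v + a ^ 2 • w by abel,
      show a ^ 2 + -a ^ 2 + be ζ (-(a • p)) (a • p + a ^ 3 • v + a ^ 2 • w) = a ^ 4 by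
        simp only [← neg_one_smul F (a • p), be, form_add_right, form_smul_left, form_smul_right, hpw, form_self]
        linear_combination (-a ^ 4) * hpv + (-a ^ 4) * h2] at h1
    have h3 := h1.shift (-a ^ 2)
    rw [show a ^ 3 • v + a ^ 2 • w + (-a ^ 2) • w = a ^ 3 • v by module,
      show a ^ 4 - 2 * -a ^ 2 = a ^ 4 by rw [h2]; ring] at h3
    have hC : A * B * A⁻¹ * B⁻¹ ∈ M := M.mul_mem (M.mul_mem (M.mul_mem hA hB) (M.inv_mem hA)) (M.inv_mem hB)
    have hvm : v ∉ F ∙ w := fun h => by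
      obtain ⟨c, hc⟩ := Submodule.mem_span_singleton.1 h
      rcases eq_or_ne c 0 with rfl | hc0
      · exact hv0 (by rw [← hc, zero_smul])
      · exact hwm' (Submodule.mem_span_singleton.2 ⟨c⁻¹, by rw [← hc, smul_smul, inv_mul_cancel₀ hc0, one_smul]⟩)
    have hv3 : form (a ^ 3 • v) w = 0 := by rw [form_smul_left, hvw, mul_zero]
    have ha3 : RScal F₀ P ζ M w (a ^ 3) := rScal_of_vp hS hM hMI hw hv hvm ⟨hv3, _, hC, _, h3⟩
    obtain ⟨D, hD, hDe⟩ := short_long hS hM hMI hw hv hvw hvm ha3 (rat_long hS hM hMI hv)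
    rw [mul_one] at hDe
    have h4 := long_of_short hMI hv3 hC hD h3 hDe
    show stv v (ζ * _) ∈ M
    refine long_transport hS hM hMI hw hw0' hv hv0 ?_
    convert h4 using 3
    ring
  obtain ⟨τ, hτT, hτ⟩ : ∃ τ ∈ T, τ ∉ F₀ := by
    by_contra hcon
    push Not at hcon
    have hf : ∀ a ∈ S, a ^ 2 + a ^ 3 ∈ F₀ := fun a ha => mem_of_sq_mem h2 (by
      rw [show (a ^ 2 + a ^ 3) ^ 2 = a ^ 4 + a ^ 6 by linear_combination (a ^ 5) * h2]
      exact hcon _ (hcube a ha))
    have h1 := hf μ hμS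
    have h3 := hf (μ + 1) (hSadd _ hμS _ (hS0 1 F₀.one_mem))
    have hc : μ + μ ^ 2 ∈ F₀ := by
      have h4 := F₀.sub_mem h3 h1
      rwa [show (μ + 1) ^ 2 + (μ + 1) ^ 3 - (μ ^ 2 + μ ^ 3) = μ + μ ^ 2 by
        linear_combination (2 * μ + μ ^ 2 + 1) * h2] at h4
    rw [show μ ^ 2 + μ ^ 3 = μ * (μ + μ ^ 2) by ring] at h1
    rcases eq_or_ne (μ + μ ^ 2) 0 with h0 | h0
    · rcases mul_eq_zero.1 (show μ * (1 + μ) = 0 by linear_combination h0) with h | h
      · exact hμ (h ▸ F₀.zero_mem)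
      · exact hμ (by rw [show μ = -1 by linear_combination h]; exact F₀.neg_mem F₀.one_mem)
    · have h4 := F₀.div_mem h1 hc
      rw [mul_div_cancel_right₀ _ h0] at h4
      exact hμ h4
  have huniv : ∀ c, c ∈ S := by
    let R0 : Set F := {a | ∀ b ∈ S, a * b ∈ S}
    have hR0 : ∀ c, c ∈ R0 := eq_univ_of_subring hr hcard (S := R0) (c := τ)
      (fun k hk b hb x hx hxv => by
        rw [mul_comm, ← smul_smul]; exact hb _ (hx.smul hk) (by rw [form_smul_left, hxv, mul_zero]))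
      (fun a ha b hb c hc => by rw [add_mul]; exact hSadd _ (ha c hc) _ (hb c hc))
      (fun a ha b hb c hc => by rw [mul_assoc]; exact ha _ (hb c hc))
      (fun b hb => by rw [mul_comm]; exact (hST b hb τ hτT).1) hτ
    exact fun c => by simpa using hR0 c 1 (hS0 1 F₀.one_mem)
  have hne : τ + τ ^ 2 ≠ 0 := fun e => by
    rcases mul_eq_zero.1 (show τ * (1 + τ) = 0 by linear_combination e) with h | h
    · exact hτ (h ▸ F₀.zero_mem)
    · exact hτ (by rw [show τ = -1 by linear_combination h]; exact F₀.neg_mem F₀.one_mem)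
  have hfullv : Full M v := fun c => by
    obtain ⟨b, hb⟩ : ∃ b, frobenius F 2 b = c / ζ / (τ + τ ^ 2) :=
      Finite.surjective_of_injective (frobenius_inj F 2) _
    have h1 : stv v (ζ * (b ^ 2 * (τ + τ ^ 2))) ∈ M := (hST b (huniv b) τ hτT).2
    rwa [show b ^ 2 = c / ζ / (τ + τ ^ 2) from hb, div_mul_cancel₀ _ hne, mul_div_cancel₀ _ hS.ne_zero] at h1
  have hallv : ∀ x, form x v = 0 → VP ζ M v x := fun x hx =>
    perp_induction hS hv (p := fun x => VP ζ M v x) (VP.zero v) (fun a b ha hb => ha.add hb)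
      (fun r c hr hrv => huniv c r hr hrv) hx
  refine spGL_le_of_vp hS.ne_zero hMI fun y hy => ?_
  obtain ⟨r, hr, hyr⟩ : ∃ r, InRS F₀ P r ∧ form y r ≠ 0 := by
    by_contra hcon
    push Not at hcon
    obtain ⟨z, hz⟩ := exists_form_ne_zero hy
    refine hz ?_
    have hle : Submodule.span F {r | InRS F₀ P r ∧ ∀ φ : E →ₗ[F] F,
        (∀ x, InRS F₀ P x → φ x ∈ F₀) → φ z = 0 → φ r = 0} ≤ LinearMap.ker (beLin ζ y) :=
      Submodule.span_le.2 fun r hr => show be ζ y r = 0 by simp [be, hcon r hr.1]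
    exact (form_eq_zero_iff hS).1 (hle (mem_span_rs z))
  have hr0 : r ≠ 0 := fun e => hyr (by rw [e, form_zero_right])
  obtain ⟨u, hu, hru, -⟩ := exists_rs_dual hS (Fin.elim0 : Fin 0 → E) (fun j => j.elim0) hr
    (by simpa using hr0)
  have hru' : form r u ≠ 0 := fun e => by simp [be, e] at hru
  have hu0 : u ≠ 0 := fun e => hru' (by rw [e, form_zero_right])
  obtain ⟨A, hA, hAv⟩ := exists_rat_move hS hv hv0 hr hr0
  obtain ⟨B, hB, hBv⟩ := exists_rat_move hS hv hv0 hu hu0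
  refine ⟨r, u, hyr, by rw [form_swap, neg_ne_zero]; exact hru', hAv ▸ full_conj hMI hfullv (hM hA),
    hBv ▸ full_conj hMI hfullv (hM hB), fun x hx => ?_⟩
  have h1 : VP ζ M v (((A⁻¹ : GLE) : MatE) *ᵥ x) :=
    hallv _ (by rw [← form_mulVec hA.2, mulVec_inv_mulVec, hAv]; exact hx)
  have h5 := h1.conj hMI (hM hA)
  rwa [hAv, mulVec_inv_mulVec] at h5

/-- An irrational centre orthogonal to a rational vector. -/
theorem spGL_le_of_centre {r : ℕ} (h2 : (2 : F) = 0) (hm : 2 ≤ m) (hr : r.Prime)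
    (hcard : Nat.card F = Nat.card F₀ ^ r) {a v : E} (ha : ¬ IsPt F₀ P a)
    (hA : stv a (ζ * 1) ∈ M) (hv : InRS F₀ P v) (hv0 : v ≠ 0) (hav : form a v = 0) :
    spGL m F ≤ M := by
  haveI : CharP F 2 := CharTwo.of_one_ne_zero_of_two_eq_zero one_ne_zero h2
  obtain ⟨v, hv, hv0, hav, x, w, hx, hw, hxv, hwv, hμ⟩ : ∃ v, InRS F₀ P v ∧ v ≠ 0 ∧ form a v = 0 ∧
      ∃ x w, InRS F₀ P x ∧ InRS F₀ P w ∧ form x v = 0 ∧ form w v = 0 ∧ be ζ x a * be ζ a w ∉ F₀ := by
    by_contra hcon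
    push Not at hcon
    have hval : ∀ v', InRS F₀ P v' → v' ≠ 0 → form a v' = 0 → ∀ x, InRS F₀ P x → form x v' = 0 →
        be ζ a x ∈ F₀ := fun v' h1 h3 h4 x hx hxv => mem_of_sq_mem h2 (by
      have h5 := hcon v' h1 h3 h4 x x hx hx hxv hxv
      rwa [be, form_swap x a, CharTwo.neg_eq, ← pow_two] at h5)
    obtain ⟨p, hp, hvp, -⟩ := exists_rs_dual hS (Fin.elim0 : Fin 0 → E) (fun j => j.elim0) hv
      (by simpa using hv0)
    have hfix : ∀ x, InRS F₀ P x → form v x = 0 → be ζ a x ∈ F₀ := fun x hx hxv =>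
      hval v hv hv0 hav x hx (by rw [form_swap, hxv, neg_zero])
    have hp' : be ζ a p ∈ F₀ := by
      obtain ⟨x1, hx1, hx1u, hx10⟩ := exists_rs_perp hS ![v, p] (Fin.forall_fin_two.2 ⟨hv, hp⟩)
        (Fin.elim0 : Fin 0 → E) (by omega)
      obtain ⟨x2, hx2, hx2u, hx2m⟩ := exists_rs_perp hS ![v, p] (Fin.forall_fin_two.2 ⟨hv, hp⟩) ![x1]
        (by omega)
      have hx10' : x1 ≠ 0 := fun e => hx10 (e ▸ Submodule.zero_mem _)
      have c1 := hfix x1 hx1 (by simpa using hx1u 0)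
      have c2 := hfix x2 hx2 (by simpa using hx2u 0)
      obtain ⟨v', hv', hv'0, hv'a, hv'p⟩ : ∃ v', InRS F₀ P v' ∧ v' ≠ 0 ∧ form a v' = 0 ∧ form p v' = 0 := by
        by_cases h1 : be ζ a x1 = 0
        · exact ⟨x1, hx1, hx10', (form_eq_zero_iff hS).1 h1, by simpa using hx1u 1⟩
        refine ⟨be ζ a x2 • x1 - be ζ a x1 • x2, (hx1.smul c2).sub (hx2.smul c1), fun e => hx2m ?_, ?_, ?_⟩
        · refine (Submodule.smul_mem_iff _ h1).1 ?_
          rw [← sub_eq_zero.1 e]
          exact Submodule.smul_mem _ _ (Submodule.subset_span ⟨0, rfl⟩)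
        · rw [form_sub_right, form_smul_right, form_smul_right, be, be]; ring
        · rw [form_sub_right, form_smul_right, form_smul_right, show form p x1 = 0 by simpa using hx1u 1,
            show form p x2 = 0 by simpa using hx2u 1]
          ring
      exact hval v' hv' hv'0 hv'a p hp hv'p
    refine ha ⟨1, a, inRS_of_pairing hS fun e he => ?_, (one_smul F a).symm⟩
    have hk : form v (e - be ζ v e • p) = 0 := by
      have hvp' : ζ * form v p = 1 := hvp
      rw [form_sub_right, form_smul_right, be]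
      linear_combination (-form v e) * hvp'
    have h1 := F₀.add_mem (hfix _ (he.sub (hp.smul (be_mem hS hv he))) hk) (F₀.mul_mem (be_mem hS hv he) hp')
    rwa [show be ζ a (e - be ζ v e • p) + be ζ v e * be ζ a p = be ζ a e by
      simp only [be, form_sub_right, form_smul_right]; ring] at h1
  have hTv : (stv a (ζ * 1) : MatE) *ᵥ v = v := by
    rw [stv_mulVec, form_swap, hav, neg_zero, mul_zero, zero_smul, add_zero]
  obtain ⟨X, hX, hXe⟩ := rat_se_mem hS hv hx hxv
  have hVx : VP ζ M v x := ⟨hxv, X, hM hX, 0, hXe⟩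
  have h1 := hVx.conj hMI hA
  rw [hTv, stv_mulVec, mul_one] at h1
  have h0 := h1.sub hVx
  rw [add_sub_cancel_left] at h0
  have h3 := h0.conj hMI (hM (rat_stv_mem hS hw F₀.one_mem))
  rw [stv_mulVec (v := w) (x := v), form_swap v w, hwv, neg_zero, mul_zero, zero_smul, add_zero,
    Matrix.mulVec_smul, stv_mulVec, mul_one, smul_add] at h3
  have h4 := h3.sub h0
  rw [add_sub_cancel_left, smul_smul] at h4
  have hne : be ζ x a * be ζ a w ≠ 0 := fun e => hμ (e ▸ F₀.zero_mem)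
  refine spGL_le_of_scalar hS hM hMI h2 hm hr hcard hv hv0 hw (fun h => ?_) hμ h4
  obtain ⟨d, rfl⟩ := Submodule.mem_span_singleton.1 h
  exact hne (by simp only [be, form_smul_right, hav, mul_zero])

omit hM hMI in
/-- The two model involutions in characteristic two. -/
lemma exists_involutions_charTwo (h2 : (2 : F) = 0) (hm : 2 ≤ m) :
    ∃ x y0 : GLE, x ∈ subfieldSubgroup F₀ P ⊓ spGL m F ∧ y0 ∈ subfieldSubgroup F₀ P ⊓ spGL m F ∧
      x * x = 1 ∧ y0 * y0 = 1 ∧ x ≠ 1 ∧ y0 ≠ 1 ∧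
      Module.finrank F (moved x) < Module.finrank F (moved y0) := by
  haveI : CharP F 2 := CharTwo.of_one_ne_zero_of_two_eq_zero one_ne_zero h2
  obtain ⟨u, hu, -, hu0⟩ := exists_rs_perp hS (Fin.elim0 : Fin 0 → E) (fun j => j.elim0)
    (Fin.elim0 : Fin 0 → E) (by omega)
  have hu00 : u ≠ 0 := fun e => hu0 (e ▸ Submodule.zero_mem _)
  obtain ⟨w, hw, hwu, hwm⟩ := exists_rs_perp hS ![u] (fun j => by simpa using hu) ![u] (by omega)
  have c1 : form u w = 0 := by simpa using hwu 0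
  have hwm' : w ∉ F ∙ u := by simpa [Matrix.range_cons, Matrix.range_empty] using hwm
  have hw00 : w ≠ 0 := fun e => hwm' (e ▸ Submodule.zero_mem _)
  obtain ⟨u', hu', huu', hu'w⟩ := exists_rs_dual hS ![w] (fun j => by simpa using hw) hu (by
    intro h
    rw [show Set.range ![w] = {w} by simp [Matrix.range_cons, Matrix.range_empty]] at h
    obtain ⟨c, hc⟩ := Submodule.mem_span_singleton.1 h
    rcases eq_or_ne c 0 with rfl | hc0
    · exact hu00 (by rw [← hc, zero_smul])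
    · exact hwm' (Submodule.mem_span_singleton.2 ⟨c⁻¹, by rw [← hc, smul_smul, inv_mul_cancel₀ hc0, one_smul]⟩))
  obtain ⟨w', hw', hww', hw'u⟩ := exists_rs_dual hS ![u] (fun j => by simpa using hu) hw hwm
  have d1 : form w u' = 0 := by simpa using hu'w 0
  have d2 : form u w' = 0 := by simpa using hw'u 0
  have hsq : ∀ z : E, stv z (ζ * 1) * stv z (ζ * 1) = 1 := fun z => by
    rw [stv_add, CharTwo.add_self_eq_zero]
    exact gl_ext_mulVec fun y => by simp [stv_mulVec]
  have hcomm : stv u (ζ * 1) * stv w (ζ * 1) = stv w (ζ * 1) * stv u (ζ * 1) :=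
    gl_ext_mulVec fun y => by
      simp only [mul_mulVec, stv_mulVec, form_add_left, form_smul_left, c1,
        show form w u = 0 by rw [form_swap, c1, neg_zero], mul_zero, add_zero]
      abel
  set x := stv u (ζ * 1)
  set y0 := x * stv w (ζ * 1) with hy0
  have hy0v : ∀ y, (y0 : MatE) *ᵥ y - y = be ζ y u • u + be ζ y w • w := fun y => by
    simp only [hy0, x, mul_mulVec, stv_mulVec, mul_one, be, form_add_left, form_smul_left,
      show form w u = 0 by rw [form_swap, c1, neg_zero], mul_zero, add_zero]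
    abel
  simp only [be] at huu' hww'
  have hu_mem : u ∈ moved y0 := mem_moved.2 ⟨u', by
    rw [hy0v, be, be, form_swap u' u, form_swap u' w, d1, CharTwo.neg_eq, huu']; simp⟩
  have hw_mem : w ∈ moved y0 := mem_moved.2 ⟨w', by
    rw [hy0v, be, be, form_swap w' u, form_swap w' w, d2, CharTwo.neg_eq, CharTwo.neg_eq, hww']; simp⟩
  have hmxu : moved x ≤ F ∙ u := fun y hy => by
    obtain ⟨z, rfl⟩ := mem_moved.1 hy
    rw [stv_mulVec, add_sub_cancel_left]
    exact Submodule.smul_mem _ _ (Submodule.mem_span_singleton_self u)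
  have hux : u ∈ moved x := mem_moved.2 ⟨u', by
    rw [stv_mulVec, add_sub_cancel_left, form_swap u' u, CharTwo.neg_eq, mul_one, huu', one_smul]⟩
  have hne : ∀ (A : GLE) (b : E), b ≠ 0 → b ∈ moved A → A ≠ 1 := fun A b hb hbA e => by
    obtain ⟨z, hz⟩ := mem_moved.1 hbA
    rw [e, Units.val_one, Matrix.one_mulVec, sub_self] at hz
    exact hb hz.symm
  have hlt : moved x < moved y0 :=
    lt_of_le_of_ne (hmxu.trans ((Submodule.span_singleton_le_iff_mem _ _).2 hu_mem))
      fun e => hwm' (hmxu (e ▸ hw_mem))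
  refine ⟨x, y0, rat_stv_mem hS hu F₀.one_mem,
    Subgroup.mul_mem _ (rat_stv_mem hS hu F₀.one_mem) (rat_stv_mem hS hw F₀.one_mem), hsq u, ?_,
    hne _ u hu00 hux, hne _ w hw00 hw_mem, Submodule.finrank_lt_finrank_of_lt hlt⟩
  rw [hy0, mul_assoc, ← mul_assoc (stv w (ζ * 1)), ← hcomm, mul_assoc, hsq w, mul_one, hsq u]

theorem spSub_key_charTwo {r : ℕ} (h2 : (2 : F) = 0) (hm : 2 ≤ m) (hr : r.Prime)
    (hcard : Nat.card F = Nat.card F₀ ^ r) (hMX : ¬ M ≤ subfieldSubgroup F₀ P) : spGL m F ≤ M := by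
  haveI : CharP F 2 := CharTwo.of_one_ne_zero_of_two_eq_zero one_ne_zero h2
  by_cases hg : Generic F₀ P M
  · obtain ⟨x, y0, hx, hy0, a1, a2, a3, a4, a5⟩ := exists_involutions_charTwo hS h2 hm
    have hneg : ∀ A : GLE, -A = A := fun A => gl_ext_mulVec fun y => by
      rw [Units.val_neg, Matrix.neg_mulVec]; funext i; exact CharTwo.neg_eq _
    exact (false_of_generic hS hm hr hcard hM hMI hg hMX hx hy0 a1 a2 ⟨a3, by rwa [hneg]⟩ ⟨a4, by rwa [hneg]⟩
      a5.ne (fun _ => by rw [hneg]; exact a5.ne) fun h => absurd (hneg 1) h).elim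
  · simp only [Generic, not_forall] at hg
    obtain ⟨g, hgM, u, v, hu, -, hv, hv0, huv, hpt⟩ := hg
    refine spGL_le_of_centre hS hM hMI h2 hm hr hcard hpt ?_ hv hv0 huv
    rw [← stv_conj (hMI hgM)]
    exact M.mul_mem (M.mul_mem hgM (hM (rat_stv_mem hS hu F₀.one_mem))) (M.inv_mem hgM)

omit hM hMI in
theorem spSub_maximal_charTwo {r : ℕ} (h2 : (2 : F) = 0) (hm : 2 ≤ m) (hr : r.Prime)
    (hcard : Nat.card F = Nat.card F₀ ^ r) :
    IsMaximalIn (spGL m F) (subfieldSubgroup F₀ P ⊓ spGL m F) :=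
  isMaximalIn_of_key (spSub_proper hS (by omega) hr hcard)
    fun _ h1 h3 h4 => spSub_key_charTwo hS h1 h3 h2 hm hr hcard h4

end CfsgLib.Geo.SpFour
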